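import Groth.Agent.Dev46.Step

/-!
Dévissage in `K₀`.
-/

set_option autoImplicit false
set_option linter.unusedSectionVars false
set_option linter.style.haveILetI false

universe v u

open CategoryTheory CategoryTheory.Limits

namespace Groth.Agent.Dev46

variable {C : Type u} [Category.{v} C] [Abelian C] {Q B : ObjectProperty C}
  [Q.IsClosedUnderIsomorphisms] [Q.IsClosedUnderKernels] [Q.IsClosedUnderCokernels] [Q.ContainsZero]

variable (Q B) in
/-- Iterated extensions. -/
def iter : ℕ → ObjectProperty C
  | 0 => B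
  | n + 1 => ext₂ Q (iter n)

theorem closed_iter (hB : Closed Q B) : ∀ n, Closed Q (iter Q B n)
  | 0 => hB
  | n + 1 => closed_ext₂ (closed_iter hB n)

theorem iter_mono (hB : Closed Q B) {X : C} {m n : ℕ} (hmn : m ≤ n) (h : iter Q B m X) :
    iter Q B n X := by
  induction n, hmn using Nat.le_induction with
  | base => exact h
  | succ n _ ih => exact le_ext₂ (closed_iter hB n) ih

/-- The retraction onto the first layer. -/
noncomputable def retractN (hB : Closed Q B) :
    ∀ n, KZero.K0sub (iter Q B n) →+ KZero.K0sub B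
  | 0 => AddMonoidHom.id _
  | n + 1 => (retractN hB n).comp (retract (closed_iter hB n))

/-- The value on a module in some layer. -/
noncomputable def valN (hB : Closed Q B) (n : ℕ) (X : C) : KZero.K0sub B :=
  retractN hB n (KZero.clSub (iter Q B n) X)

theorem valN_succ (hB : Closed Q B) {n : ℕ} {X : C} (h : iter Q B n X) :
    valN hB (n + 1) X = valN hB n X :=
  congrArg (retractN hB n) (retract_clSub_of_prop (closed_iter hB n) h)

theorem valN_eq_of_le (hB : Closed Q B) {m n : ℕ} {X : C} (hmn : m ≤ n) (h : iter Q B m X) :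
    valN hB n X = valN hB m X := by
  induction n, hmn using Nat.le_induction with
  | base => rfl
  | succ n hn ih => rw [valN_succ hB (iter_mono hB hn h), ih]

section Total

variable (hB : Closed Q B) (hQ : ∀ X, Q X → ∃ n, iter Q B n X)

/-- The retraction on all of `Q`. -/
noncomputable def retractTot : KZero.K0sub Q →+ KZero.K0sub B :=
  QuotientAddGroup.lift _ (FreeAbelianGroup.lift fun X => valN hB (hQ X.1 X.2).choose X.1) (by
    rw [KZero.relSub, AddSubgroup.closure_le]
    rintro _ ⟨S, h₁, h₂, h₃, hS, rfl⟩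
    rw [SetLike.mem_coe, AddMonoidHom.mem_ker, map_sub, map_sub, FreeAbelianGroup.lift_apply_of,
      FreeAbelianGroup.lift_apply_of, FreeAbelianGroup.lift_apply_of]
    dsimp only
    set n₁ := (hQ S.X₁ h₁).choose with hn₁
    set n₂ := (hQ S.X₂ h₂).choose with hn₂
    set n₃ := (hQ S.X₃ h₃).choose with hn₃
    have g₁ := (hQ S.X₁ h₁).choose_spec
    have g₂ := (hQ S.X₂ h₂).choose_spec
    have g₃ := (hQ S.X₃ h₃).choose_spec
    let n := max n₁ (max n₂ n₃)
    rw [← valN_eq_of_le hB (le_max_left n₁ (max n₂ n₃)) g₁,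
      ← valN_eq_of_le hB ((le_max_left n₂ n₃).trans (le_max_right n₁ _)) g₂,
      ← valN_eq_of_le hB ((le_max_right n₂ n₃).trans (le_max_right n₁ _)) g₃]
    have i₁ := iter_mono hB (le_max_left n₁ (max n₂ n₃)) g₁
    have i₂ := iter_mono hB ((le_max_left n₂ n₃).trans (le_max_right n₁ _)) g₂
    have i₃ := iter_mono hB ((le_max_right n₂ n₃).trans (le_max_right n₁ _)) g₃
    simp only [valN]
    rw [KDer46.clSub_add S hS i₁ i₂ i₃, map_add]
    abel)

theorem retractTot_clSub {X : C} (hX : Q X) {n : ℕ} (h : iter Q B n X) :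
    retractTot hB hQ (KZero.clSub Q X) = valN hB n X := by
  refine ((congrArg (retractTot hB hQ) (KDer46.clSub_eq hX)).trans
    (FreeAbelianGroup.lift_apply_of _ _)).trans ?_
  rcases le_total n (hQ X hX).choose with hle | hle
  · exact valN_eq_of_le hB hle h
  · exact (valN_eq_of_le hB hle (hQ X hX).choose_spec).symm

end Total

/-- Dévissage: the inclusion of `B` in `Q` induces a bijection on `K₀`. -/
theorem bijective_of_hom (hB : Closed Q B) (hQ : ∀ X, Q X → ∃ n, iter Q B n X)
    (ι : KZero.K0sub B →+ KZero.K0sub Q)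
    (hι : ∀ X, B X → ι (KZero.clSub B X) = KZero.clSub Q X) : Function.Bijective ι := by
  refine ⟨Function.LeftInverse.injective (g := retractTot hB hQ) fun x => ?_, ?_⟩
  · obtain ⟨z, rfl⟩ := QuotientAddGroup.mk_surjective x
    induction z using FreeAbelianGroup.induction_on with
    | zero => exact (congrArg (retractTot hB hQ) (map_zero ι)).trans (map_zero _)
    | of X =>
      have e := hι X.1 X.2
      rw [KDer46.clSub_eq X.2] at e
      refine ((congrArg (retractTot hB hQ) e).trans
        (retractTot_clSub hB hQ (hB.le _ X.2) (n := 0) X.2)).trans ?_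
      exact KDer46.clSub_eq X.2
    | neg z hz => rw [QuotientAddGroup.mk_neg, map_neg, map_neg, hz]
    | add y z hy hz => rw [QuotientAddGroup.mk_add, map_add, map_add, hy, hz]
  · have key : ∀ n X, iter Q B n X → KZero.clSub Q X ∈ ι.range := by
      intro n
      induction n with
      | zero => exact fun X hX => ⟨KZero.clSub B X, hι X hX⟩
      | succ n ih =>
        rintro X ⟨hX, A, G, f, p, w, hS, hA, hG⟩
        have e : KZero.clSub Q X = KZero.clSub Q A + KZero.clSub Q G :=
          KDer46.clSub_add _ hS ((closed_iter hB n).le _ hA) hX ((closed_iter hB n).le _ hG)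
        rw [e]
        exact add_mem (ih A hA) (ih G hG)
    intro x
    obtain ⟨z, rfl⟩ := QuotientAddGroup.mk_surjective x
    induction z using FreeAbelianGroup.induction_on with
    | zero => exact ⟨0, map_zero ι⟩
    | of X =>
      obtain ⟨n, hn⟩ := hQ X.1 X.2
      exact KDer46.clSub_eq X.2 ▸ key n X.1 hn
    | neg z hz =>
      obtain ⟨y, hy⟩ := hz
      exact ⟨-y, by rw [map_neg, hy, QuotientAddGroup.mk_neg]⟩
    | add y z hy hz =>
      obtain ⟨a, ha⟩ := hy
      obtain ⟨b, hb⟩ := hz
      exact ⟨a + b, by rw [map_add, ha, hb, QuotientAddGroup.mk_add]⟩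

end Groth.Agent.Dev46
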