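import Groth.Agent.Dev46.Main
import Groth.Agent.KDer46.Hom
import Groth.Agent.QCPull72.Closed
import Groth.Agent.QCPull72.Sections
import Groth.Agent.QC70.PushClosed
import Groth.Agent.QC70.ClosedHomInj
import Groth.Agent.QC70.Devissage
import Groth.Agent.QC70.CohOps
import Groth.Agent.QCSupp72.Basic
import Groth.Prelude.Def_SGA6

/-!
Dévissage along a closed immersion which is surjective on points.
-/

set_option autoImplicit false
set_option linter.unusedSectionVars false
set_option linter.overlappingInstances false
set_option linter.style.haveILetI false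
set_option backward.isDefEq.respectTransparency.types false

noncomputable section

universe u

open CategoryTheory CategoryTheory.Limits AlgebraicGeometry

namespace Groth.Agent.Dev46

variable {X : Scheme.{u}} [IsLocallyNoetherian X]

/-- Coherent modules on `X`, as an object property. -/
abbrev cohP (X : Scheme.{u}) : ObjectProperty X.Modules := fun M => Coh.IsCoh M

instance : (cohP X).IsClosedUnderIsomorphisms := ⟨fun e h => QC70.isCoh_of_iso e h⟩

instance : (cohP X).IsClosedUnderKernels :=
  KDer46.isClosedUnderKernels_of _ fun f hX hY => QC70.isCoh_kernel f hX hY.1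

instance : (cohP X).IsClosedUnderCokernels :=
  KDer46.isClosedUnderCokernels_of _ fun f hX hY => QC70.isCoh_cokernel f hX.1 hY

instance : (cohP X).ContainsZero := by
  obtain ⟨Z, hZ⟩ := HasZeroObject.zero (C := X.Modules)
  exact ⟨⟨Z, hZ, QC70.isCoh_of_isZero hZ⟩⟩

variable {X' : Scheme.{u}} (i : X' ⟶ X) [IsClosedImmersion i]

/-- Coherent modules killed by the ideal of `i`. -/
def killed : ObjectProperty X.Modules := fun M =>
  Coh.IsCoh M ∧ ∀ (U : X.affineOpens) (a : Γ(X, U.1)), a ∈ i.ker.ideal U → ∀ s : Γ(M, U.1), a • s = 0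

theorem closed_killed : Closed (cohP X) (killed i) where
  le := fun _ h => h.1
  zero := fun M hM => ⟨QC70.isCoh_of_isZero hM, fun U a _ s => by
    have := Scheme.Modules.Hom.app_smul (𝟙 M) (U := U.1) a s
    have h0 : (𝟙 M : M ⟶ M) = 0 := hM.eq_of_src _ _
    rw [h0] at this
    have hs : ∀ t : Γ(M, U.1), t = 0 := fun t =>
      (congrArg (fun φ : M ⟶ M => φ.app U.1 t) h0 :)
    exact hs _⟩
  left := fun S hS h₁ _ h => ⟨h₁, fun U a ha s => by
    haveI := hS.mono_f
    refine QC70.app_injective_of_mono S.f U.1 ?_
    rw [Scheme.Modules.Hom.app_smul, h.2 U a ha, map_zero]⟩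
  right := fun S hS h₁ h₃ h => ⟨h₃, fun U a ha s => by
    haveI : S.X₁.IsQuasicoherent := h₁.1
    obtain ⟨t, rfl⟩ := QC70.app_surjective_of_isAffineOpen S hS U.2 s
    rw [← Scheme.Modules.Hom.app_smul, h.2 U a ha, map_zero]⟩

theorem killed_pushforward {N : X'.Modules} (hN : Coh.IsCoh N) :
    killed i ((Scheme.Modules.pushforward i).obj N) :=
  ⟨QC70.isCoh_pushforward i N hN, fun U a ha s => by
    refine (QCqs72.pushforward_smul N i a s).trans ?_
    rw [show i.app U.1 a = 0 from i.ideal_ker_le U ha, zero_smul]
    rfl⟩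

theorem isIso_unit {M : X.Modules} (hM : killed i M) :
    IsIso ((Scheme.Modules.pullbackPushforwardAdjunction i).unit.app M) := by
  haveI := hM.1.1
  exact (QCPull72.isIso_pullUnit_iff i M).2 hM.2

theorem isIso_counit {N : X'.Modules} (hN : Coh.IsCoh N) :
    IsIso ((Scheme.Modules.pullbackPushforwardAdjunction i).counit.app N) := by
  haveI := isIso_unit i (killed_pushforward i hN)
  haveI := QC70.faithful_pushforward i
  haveI : IsIso ((Scheme.Modules.pushforward i).map
      ((Scheme.Modules.pullbackPushforwardAdjunction i).counit.app N)) :=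
    IsIso.of_isIso_fac_left
      ((Scheme.Modules.pullbackPushforwardAdjunction i).right_triangle_components N)
  exact isIso_of_reflects_iso _ (Scheme.Modules.pushforward i)

theorem isCoh_pullback {M : X.Modules} (hM : Coh.IsCoh M) :
    Coh.IsCoh ((Scheme.Modules.pullback i).obj M) := by
  haveI := hM.1
  haveI := hM.2
  exact ⟨QCPull72.isQuasicoherent_pullback i M, QCPull72.isFiniteType_pullback i M⟩

theorem exists_iter [AlgebraicGeometry.IsNoetherian X] {F : X.Modules} (hF : Coh.IsCoh F)
    (hFi : CohB1.support F ⊆ Set.range i) :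
    ∃ n, iter (cohP X) (killed i) n F := by
  suffices key : ∀ (n : ℕ) (F : X.Modules), Coh.IsCoh F →
      (∀ (W : X.affineOpens) (a : Γ(X, W.1)), a ∈ i.ker.ideal W ^ n → ∀ t : Γ(F, W.1), a • t = 0) →
      ∃ m, iter (cohP X) (killed i) m F by
    haveI := hF.1
    haveI := hF.2
    have hs : CohB1.support F ⊆ (i.ker.support : Set X) := by
      rw [Scheme.Hom.support_ker]
      exact hFi.trans subset_closure
    obtain ⟨n, hn⟩ := QCSupp72.exists_pow_smul_sections_eq_zero F i.ker hs
    exact key n F hF hn
  intro n
  induction n with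
  | zero =>
    intro F hF h
    exact ⟨0, hF, fun U a _ s => by
      rw [← one_smul Γ(X, U.1) s, h U 1 (by rw [pow_zero, Ideal.one_eq_top]; trivial) s, smul_zero]⟩
  | succ n ihn =>
    intro F hF h
    haveI := hF.1
    have hJ := QC70.isCoh_idealMul i.ker hF
    obtain ⟨m, hm⟩ := ihn _ hJ fun W a ha t => by
      refine QC70.smul_idealMul_eq_zero i.ker W ha (fun b hb s => h W b ?_ s) t
      rwa [pow_succ]
    have hq : killed i (QC70.quotSC i.ker F).X₃ :=
      ⟨QC70.isCoh_quot i.ker hF, fun U a ha s => QC70.smul_quot_eq_zero i.ker F U ha s⟩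
    exact ⟨m + 1, hF, _, _, _, _, _, QC70.quotSC_shortExact i.ker F, hm,
      iter_mono (closed_killed i) (Nat.zero_le m) hq⟩

/-- Pullback as a map on `K₀` of killed modules. -/
def pullK0 [(Scheme.Modules.pushforward i).Additive]
    [PreservesFiniteLimits (Scheme.Modules.pushforward i)]
    [PreservesFiniteColimits (Scheme.Modules.pushforward i)] : KZero.K0sub (killed i) →+ KZero.K0sub (cohP X') :=
  QuotientAddGroup.lift _ (FreeAbelianGroup.lift fun M =>
    KZero.clSub (cohP X') ((Scheme.Modules.pullback i).obj M.1)) (by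
    rw [KZero.relSub, AddSubgroup.closure_le]
    rintro _ ⟨S, h₁, h₂, h₃, hS, rfl⟩
    rw [SetLike.mem_coe, AddMonoidHom.mem_ker, map_sub, map_sub, FreeAbelianGroup.lift_apply_of,
      FreeAbelianGroup.lift_apply_of, FreeAbelianGroup.lift_apply_of]
    let adj := Scheme.Modules.pullbackPushforwardAdjunction i
    haveI : (Scheme.Modules.pullback i).Additive := adj.left_adjoint_additive
    haveI := QC70.faithful_pushforward i
    have u₁ : IsIso (adj.unit.app S.X₁) := isIso_unit i h₁
    have u₂ : IsIso (adj.unit.app S.X₂) := isIso_unit i h₂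
    have u₃ : IsIso (adj.unit.app S.X₃) := isIso_unit i h₃
    have e : S ≅ (S.map (Scheme.Modules.pullback i)).map (Scheme.Modules.pushforward i) :=
      ShortComplex.isoMk (@asIso _ _ _ _ _ u₁) (@asIso _ _ _ _ _ u₂)
        (@asIso _ _ _ _ _ u₃) (adj.unit.naturality S.f).symm (adj.unit.naturality S.g).symm
    have hS₂ := ShortComplex.shortExact_of_iso e hS
    have hS' : (S.map (Scheme.Modules.pullback i)).ShortExact :=
      { exact := (ShortComplex.exact_map_iff_of_faithful _ (Scheme.Modules.pushforward i)).1 hS₂.exact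
        mono_f := Functor.mono_of_mono_map (Scheme.Modules.pushforward i) hS₂.mono_f
        epi_g := Functor.epi_of_epi_map (Scheme.Modules.pushforward i) hS₂.epi_g }
    have := KDer46.clSub_add (P := cohP X') _ hS' (isCoh_pullback i h₁.1) (isCoh_pullback i h₂.1)
      (isCoh_pullback i h₃.1)
    change KZero.clSub (cohP X') ((Scheme.Modules.pullback i).obj S.X₂) =
      KZero.clSub (cohP X') ((Scheme.Modules.pullback i).obj S.X₁) +
        KZero.clSub (cohP X') ((Scheme.Modules.pullback i).obj S.X₃) at this
    rw [this]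
    abel)

theorem bijective_mapSub [AlgebraicGeometry.IsNoetherian X] [Surjective i]
    [(Scheme.Modules.pushforward i).Additive] [PreservesFiniteLimits (Scheme.Modules.pushforward i)]
    [PreservesFiniteColimits (Scheme.Modules.pushforward i)]
    (hi : ∀ M : X'.Modules, Coh.IsCoh M → Coh.IsCoh ((Scheme.Modules.pushforward i).obj M)) :
    Function.Bijective (SGA6.mapSub (Scheme.Modules.pushforward i) (cohP X') (cohP X) hi) := by
  haveI : IsLocallyNoetherian X' := LocallyOfFiniteType.isLocallyNoetherian i
  let e := SGA6.mapSub (Scheme.Modules.pushforward i) (cohP X') (killed i)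
    fun M hM => killed_pushforward i hM
  let ι : KZero.K0sub (killed i) →+ KZero.K0sub (cohP X) :=
    (SGA6.mapSub (Scheme.Modules.pushforward i) (cohP X') (cohP X) hi).comp (pullK0 i)
  have hpull : ∀ M, killed i M →
      pullK0 i (KZero.clSub (killed i) M) = KZero.clSub (cohP X') ((Scheme.Modules.pullback i).obj M) :=
    fun M hM => (congrArg (pullK0 i) (KDer46.clSub_eq hM)).trans (FreeAbelianGroup.lift_apply_of _ _)
  have hmap : ∀ N, Coh.IsCoh N →
      SGA6.mapSub (Scheme.Modules.pushforward i) (cohP X') (cohP X) hi (KZero.clSub (cohP X') N) =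
        KZero.clSub (cohP X) ((Scheme.Modules.pushforward i).obj N) := fun N hN =>
    (congrArg _ (KDer46.clSub_eq (P := cohP X') hN)).trans
      ((congrArg QuotientAddGroup.mk (FreeAbelianGroup.map_of_apply _)).trans
        (KDer46.clSub_eq (P := cohP X) (hi N hN)).symm)
  have hmape : ∀ N, Coh.IsCoh N →
      e (KZero.clSub (cohP X') N) = KZero.clSub (killed i) ((Scheme.Modules.pushforward i).obj N) :=
    fun N hN => (congrArg _ (KDer46.clSub_eq (P := cohP X') hN)).trans
      ((congrArg QuotientAddGroup.mk (FreeAbelianGroup.map_of_apply _)).trans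
        (KDer46.clSub_eq (killed_pushforward i hN)).symm)
  have hι : ∀ M, killed i M → ι (KZero.clSub (killed i) M) = KZero.clSub (cohP X) M := by
    intro M hM
    haveI := isIso_unit i hM
    refine (congrArg _ (hpull M hM)).trans ((hmap _ (isCoh_pullback i hM.1)).trans ?_)
    exact KDer46.clSub_iso
      (asIso ((Scheme.Modules.pullbackPushforwardAdjunction i).unit.app M)).symm
  have hpe : Function.LeftInverse (pullK0 i) e := fun x => by
    obtain ⟨z, rfl⟩ := QuotientAddGroup.mk_surjective x
    induction z using FreeAbelianGroup.induction_on with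
    | zero => exact (congrArg (pullK0 i) (map_zero e)).trans (map_zero _)
    | of N =>
      haveI := isIso_counit i N.2
      rw [← KDer46.clSub_eq N.2, hmape _ N.2, hpull _ (killed_pushforward i N.2)]
      exact KDer46.clSub_iso
        (asIso ((Scheme.Modules.pullbackPushforwardAdjunction i).counit.app N.1))
    | neg z hz => rw [QuotientAddGroup.mk_neg, map_neg, map_neg, hz]
    | add y z hy hz => rw [QuotientAddGroup.mk_add, map_add, map_add, hy, hz]
  have hep : Function.LeftInverse e (pullK0 i) := fun x => by
    obtain ⟨z, rfl⟩ := QuotientAddGroup.mk_surjective x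
    induction z using FreeAbelianGroup.induction_on with
    | zero => exact (congrArg e (map_zero (pullK0 i))).trans (map_zero _)
    | of M =>
      haveI := isIso_unit i M.2
      rw [← KDer46.clSub_eq M.2, hpull _ M.2, hmape _ (isCoh_pullback i M.2.1)]
      exact clSub_iso' (closed_killed i)
        (asIso ((Scheme.Modules.pullbackPushforwardAdjunction i).unit.app M.1)).symm M.2
    | neg z hz => rw [QuotientAddGroup.mk_neg, map_neg, map_neg, hz]
    | add y z hy hz => rw [QuotientAddGroup.mk_add, map_add, map_add, hy, hz]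
  have hb := bijective_of_hom (closed_killed i) (fun F hF => exists_iter i hF fun x _ => i.surjective x) ι hι
  have hfac : ⇑(SGA6.mapSub (Scheme.Modules.pushforward i) (cohP X') (cohP X) hi) = ι ∘ e :=
    funext fun x => (congrArg _ (hpe x)).symm
  rw [hfac]
  exact hb.comp ⟨hpe.injective, hep.surjective⟩

end Groth.Agent.Dev46
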