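import Groth.Agent.KDer46.Main
import Mathlib.CategoryTheory.ObjectProperty.ContainsZero

/-!
Dévissage in `K₀`: extensions of two objects of a class closed under subobjects and quotients.
-/

set_option autoImplicit false
set_option linter.unusedSectionVars false
set_option linter.style.haveILetI false

universe v u

open CategoryTheory CategoryTheory.Limits

namespace Groth.Agent.Dev46

variable {C : Type u} [Category.{v} C] [Abelian C]

/-- `B` is contained in `Q` and closed under subobjects and quotients taken in `Q`. -/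
structure Closed (Q B : ObjectProperty C) : Prop where
  le : ∀ X, B X → Q X
  zero : ∀ X, IsZero X → B X
  left : ∀ S : ShortComplex C, S.ShortExact → Q S.X₁ → Q S.X₃ → B S.X₂ → B S.X₁
  right : ∀ S : ShortComplex C, S.ShortExact → Q S.X₁ → Q S.X₃ → B S.X₂ → B S.X₃

/-- Objects of `Q` which are extensions of two objects of `B`. -/
def ext₂ (Q B : ObjectProperty C) : ObjectProperty C :=
  fun F => Q F ∧ ∃ (A G : C) (f : A ⟶ F) (p : F ⟶ G) (w : f ≫ p = 0),
    (ShortComplex.mk f p w).ShortExact ∧ B A ∧ B G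

variable {Q B : ObjectProperty C} [Q.IsClosedUnderIsomorphisms] [Q.IsClosedUnderKernels]
  [Q.IsClosedUnderCokernels] [Q.ContainsZero]

theorem Closed.iso (hB : Closed Q B) {X Y : C} (e : X ≅ Y) (h : B Y) : B X := by
  obtain ⟨Z, hZ, hQZ⟩ := Q.exists_prop_of_containsZero
  have hS : (ShortComplex.mk e.hom (0 : Y ⟶ Z) comp_zero).ShortExact :=
    { exact := (ShortComplex.exact_iff_epi _ rfl).2 (inferInstanceAs (Epi e.hom))
      epi_g := ⟨fun g h _ => hZ.eq_of_src g h⟩ }
  exact hB.left _ hS (Q.prop_of_iso e.symm (hB.le _ h)) hQZ h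

section Hom

variable {X Y : C} (φ : X ⟶ Y)

theorem shortExact_ker : (ShortComplex.mk (kernel.ι φ) (kernel.lift (cokernel.π φ) φ
    (cokernel.condition φ)) (by ext; simp)).ShortExact := by
  haveI : Epi (kernel.lift (cokernel.π φ) φ (cokernel.condition φ)) :=
    (inferInstance : Epi (Abelian.factorThruImage φ))
  exact
    { exact := ShortComplex.exact_of_f_is_kernel _
        (isKernelOfComp (kernel.ι (cokernel.π φ)) φ (kernelIsKernel φ) _ (kernel.lift_ι _ _ _)) }

theorem shortExact_coker : (ShortComplex.mk (kernel.ι (cokernel.π φ)) (cokernel.π φ)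
    (kernel.condition _)).ShortExact :=
  { exact := ShortComplex.exact_of_f_is_kernel _ (kernelIsKernel _) }

theorem prop_image (hX : Q X) (hY : Q Y) :
    Q (kernel φ) ∧ Q (kernel (cokernel.π φ)) ∧ Q (cokernel φ) :=
  ⟨Q.prop_kernel φ hX hY, Q.prop_kernel _ hY (Q.prop_cokernel φ hX hY), Q.prop_cokernel φ hX hY⟩

theorem Closed.image_src (hB : Closed Q B) (hX : B X) (hY : Q Y) :
    B (kernel φ) ∧ B (kernel (cokernel.π φ)) := by
  obtain ⟨h₁, h₂, -⟩ := prop_image φ (hB.le _ hX) hY
  exact ⟨hB.left _ (shortExact_ker φ) h₁ h₂ hX, hB.right _ (shortExact_ker φ) h₁ h₂ hX⟩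

theorem Closed.image_tgt (hB : Closed Q B) (hX : Q X) (hY : B Y) :
    B (kernel (cokernel.π φ)) ∧ B (cokernel φ) := by
  obtain ⟨-, h₂, h₃⟩ := prop_image φ hX (hB.le _ hY)
  exact ⟨hB.left _ (shortExact_coker φ) h₂ h₃ hY, hB.right _ (shortExact_coker φ) h₂ h₃ hY⟩

end Hom

section Two

variable {F A G A' G' : C} {f : A ⟶ F} {p : F ⟶ G} {w : f ≫ p = 0} {g : A' ⟶ F} {q : F ⟶ G'}
  {w' : g ≫ q = 0}

/-- The two intersections agree. -/
noncomputable def kerIso (hS : (ShortComplex.mk f p w).ShortExact)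
    (hT : (ShortComplex.mk g q w').ShortExact) : kernel (f ≫ q) ≅ kernel (g ≫ p) where
  hom := kernel.lift _ (hT.fIsKernel.lift (KernelFork.ofι (kernel.ι (f ≫ q) ≫ f)
    (by rw [Category.assoc]; exact kernel.condition _))) (by
      haveI := hT.mono_f
      have h := hT.fIsKernel.fac (KernelFork.ofι (kernel.ι (f ≫ q) ≫ f)
        (by rw [Category.assoc]; exact kernel.condition _)) WalkingParallelPair.zero
      simp only [Fork.ofι_pt, Fork.ofι_π_app] at h
      rw [← Category.assoc, h]
      simp [w])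
  inv := kernel.lift _ (hS.fIsKernel.lift (KernelFork.ofι (kernel.ι (g ≫ p) ≫ g)
    (by rw [Category.assoc]; exact kernel.condition _))) (by
      have h := hS.fIsKernel.fac (KernelFork.ofι (kernel.ι (g ≫ p) ≫ g)
        (by rw [Category.assoc]; exact kernel.condition _)) WalkingParallelPair.zero
      simp only [Fork.ofι_pt, Fork.ofι_π_app] at h
      rw [← Category.assoc, h]
      simp [w'])
  hom_inv_id := by
    haveI : Mono f := hS.mono_f
    have hF := hS.fIsKernel.fac (KernelFork.ofι (kernel.ι (g ≫ p) ≫ g)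
        (by rw [Category.assoc]; exact kernel.condition _)) WalkingParallelPair.zero
    have hG := hT.fIsKernel.fac (KernelFork.ofι (kernel.ι (f ≫ q) ≫ f)
        (by rw [Category.assoc]; exact kernel.condition _)) WalkingParallelPair.zero
    simp only [Fork.ofι_pt, Fork.ofι_π_app] at hF hG
    rw [← cancel_mono (kernel.ι (f ≫ q)), ← cancel_mono f, Category.assoc, Category.assoc,
      kernel.lift_ι_assoc, hF, kernel.lift_ι_assoc, hG, Category.id_comp]
  inv_hom_id := by
    haveI : Mono g := hT.mono_f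
    have hF := hS.fIsKernel.fac (KernelFork.ofι (kernel.ι (g ≫ p) ≫ g)
        (by rw [Category.assoc]; exact kernel.condition _)) WalkingParallelPair.zero
    have hG := hT.fIsKernel.fac (KernelFork.ofι (kernel.ι (f ≫ q) ≫ f)
        (by rw [Category.assoc]; exact kernel.condition _)) WalkingParallelPair.zero
    simp only [Fork.ofι_pt, Fork.ofι_π_app] at hF hG
    rw [← cancel_mono (kernel.ι (g ≫ p)), ← cancel_mono g, Category.assoc, Category.assoc,
      kernel.lift_ι_assoc, hG, kernel.lift_ι_assoc, hF, Category.id_comp]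

/-- The two double quotients agree. -/
noncomputable def cokerIso (hS : (ShortComplex.mk f p w).ShortExact)
    (hT : (ShortComplex.mk g q w').ShortExact) : cokernel (f ≫ q) ≅ cokernel (g ≫ p) where
  hom := cokernel.desc _ (hT.gIsCokernel.desc (CokernelCofork.ofπ (p ≫ cokernel.π (g ≫ p))
    (by rw [← Category.assoc]; exact cokernel.condition _))) (by
      have h := hT.gIsCokernel.fac (CokernelCofork.ofπ (p ≫ cokernel.π (g ≫ p))
        (by rw [← Category.assoc]; exact cokernel.condition _)) WalkingParallelPair.one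
      simp only [Cofork.ofπ_pt, Cofork.ofπ_ι_app] at h
      rw [Category.assoc, h]
      simp [← Category.assoc, w])
  inv := cokernel.desc _ (hS.gIsCokernel.desc (CokernelCofork.ofπ (q ≫ cokernel.π (f ≫ q))
    (by rw [← Category.assoc]; exact cokernel.condition _))) (by
      have h := hS.gIsCokernel.fac (CokernelCofork.ofπ (q ≫ cokernel.π (f ≫ q))
        (by rw [← Category.assoc]; exact cokernel.condition _)) WalkingParallelPair.one
      simp only [Cofork.ofπ_pt, Cofork.ofπ_ι_app] at h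
      rw [Category.assoc, h]
      simp [← Category.assoc, w'])
  hom_inv_id := by
    haveI : Epi q := hT.epi_g
    have hF := hS.gIsCokernel.fac (CokernelCofork.ofπ (q ≫ cokernel.π (f ≫ q))
        (by rw [← Category.assoc]; exact cokernel.condition _)) WalkingParallelPair.one
    have hG := hT.gIsCokernel.fac (CokernelCofork.ofπ (p ≫ cokernel.π (g ≫ p))
        (by rw [← Category.assoc]; exact cokernel.condition _)) WalkingParallelPair.one
    simp only [Cofork.ofπ_pt, Cofork.ofπ_ι_app] at hF hG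
    rw [← cancel_epi (cokernel.π (f ≫ q)), ← cancel_epi q, cokernel.π_desc_assoc, ← Category.assoc,
      hG, Category.assoc, cokernel.π_desc, hF, Category.comp_id]
  inv_hom_id := by
    haveI : Epi p := hS.epi_g
    have hF := hS.gIsCokernel.fac (CokernelCofork.ofπ (q ≫ cokernel.π (f ≫ q))
        (by rw [← Category.assoc]; exact cokernel.condition _)) WalkingParallelPair.one
    have hG := hT.gIsCokernel.fac (CokernelCofork.ofπ (p ≫ cokernel.π (g ≫ p))
        (by rw [← Category.assoc]; exact cokernel.condition _)) WalkingParallelPair.one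
    simp only [Cofork.ofπ_pt, Cofork.ofπ_ι_app] at hF hG
    rw [← cancel_epi (cokernel.π (g ≫ p)), ← cancel_epi p, cokernel.π_desc_assoc, ← Category.assoc,
      hF, Category.assoc, cokernel.π_desc, hG, Category.comp_id]

/-- A subobject and a quotient of an extension are extensions. -/
theorem exists_refine (hB : Closed Q B) (hS : (ShortComplex.mk f p w).ShortExact)
    (hT : (ShortComplex.mk g q w').ShortExact) (hA : B A) (hG : B G) (hA' : Q A') (hG' : Q G') :
    ext₂ Q B A' ∧ ext₂ Q B G' := by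
  have hk := hB.image_src (f ≫ q) hA hG'
  have hc := hB.image_tgt (g ≫ p) hA' hG
  exact ⟨⟨hA', _, _, _, _, _, shortExact_ker (g ≫ p), hB.iso (kerIso hS hT).symm hk.1, hc.1⟩,
    ⟨hG', _, _, _, _, _, shortExact_coker (f ≫ q), hk.2, hB.iso (cokerIso hS hT) hc.2⟩⟩

end Two

section Class

theorem clSub_iso' (hB : Closed Q B) {X Y : C} (e : X ≅ Y) (hY : B Y) :
    KZero.clSub B X = KZero.clSub B Y := by
  obtain ⟨Z, hZ, -⟩ := Q.exists_prop_of_containsZero
  have hS : (ShortComplex.mk (0 : Z ⟶ X) e.hom zero_comp).ShortExact :=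
    { exact := (ShortComplex.exact_iff_mono _ rfl).2 (inferInstanceAs (Mono e.hom))
      mono_f := ⟨fun g h _ => hZ.eq_of_tgt g h⟩ }
  have hS' : (ShortComplex.mk (𝟙 Z) (0 : Z ⟶ Z) comp_zero).ShortExact :=
    { exact := ShortComplex.exact_of_isZero_X₂ _ hZ
      epi_g := ⟨fun g h _ => hZ.eq_of_src g h⟩ }
  have e₀ := KDer46.clSub_add _ hS' (hB.zero _ hZ) (hB.zero _ hZ) (hB.zero _ hZ)
  have e₁ := KDer46.clSub_add _ hS (hB.zero _ hZ) (hB.iso e hY) hY
  change KZero.clSub B Z = KZero.clSub B Z + KZero.clSub B Z at e₀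
  change KZero.clSub B X = KZero.clSub B Z + KZero.clSub B Y at e₁
  rw [e₁, left_eq_add.1 e₀, zero_add]

variable (hB : Closed Q B)

include hB in
/-- Schreier refinement: both sides are the sum of the classes of the four subquotients. -/
theorem clSub_refine {F A G A' G' : C} {f : A ⟶ F} {p : F ⟶ G} {w : f ≫ p = 0} {g : A' ⟶ F}
    {q : F ⟶ G'} {w' : g ≫ q = 0} (hS : (ShortComplex.mk f p w).ShortExact)
    (hT : (ShortComplex.mk g q w').ShortExact) (hA : B A) (hG : B G) (hA' : Q A') (hG' : Q G') :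
    KZero.clSub B A + KZero.clSub B G =
      (KZero.clSub B (kernel (g ≫ p)) + KZero.clSub B (kernel (cokernel.π (g ≫ p)))) +
        (KZero.clSub B (kernel (cokernel.π (f ≫ q))) + KZero.clSub B (cokernel (f ≫ q))) := by
  obtain ⟨hK, hI⟩ := hB.image_src (f ≫ q) hA hG'
  obtain ⟨hI', hR'⟩ := hB.image_tgt (g ≫ p) hA' hG
  have e₁ : KZero.clSub B A =
      KZero.clSub B (kernel (f ≫ q)) + KZero.clSub B (kernel (cokernel.π (f ≫ q))) :=
    KDer46.clSub_add _ (shortExact_ker (f ≫ q)) hK hA hI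
  have e₂ : KZero.clSub B G =
      KZero.clSub B (kernel (cokernel.π (g ≫ p))) + KZero.clSub B (cokernel (g ≫ p)) :=
    KDer46.clSub_add _ (shortExact_coker (g ≫ p)) hI' hG hR'
  rw [e₁, e₂, clSub_iso' hB (kerIso hS hT).symm hK, clSub_iso' hB (cokerIso hS hT) hR']
  abel

/-- The value of a witness. -/
noncomputable def val {F : C} (h : ext₂ Q B F) : KZero.K0sub B :=
  KZero.clSub B h.2.choose + KZero.clSub B h.2.choose_spec.choose

include hB in
theorem val_eq {F A G : C} (h : ext₂ Q B F) {f : A ⟶ F} {p : F ⟶ G} {w : f ≫ p = 0}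
    (hS : (ShortComplex.mk f p w).ShortExact) (hA : B A) (hG : B G) :
    val h = KZero.clSub B A + KZero.clSub B G := by
  obtain ⟨g, q, w', hT, hA', hG'⟩ := h.2.choose_spec.choose_spec
  rw [val, clSub_refine hB hS hT hA hG (hB.le _ hA') (hB.le _ hG')]
  have hk := hB.image_src (g ≫ p) hA' (hB.le _ hG)
  have hc := hB.image_tgt (f ≫ q) (hB.le _ hA) hG'
  rw [← KDer46.clSub_add _ (shortExact_ker (g ≫ p)) hk.1 hA' hk.2,
    ← KDer46.clSub_add _ (shortExact_coker (f ≫ q)) hc.1 hG' hc.2]

include hB in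
theorem closed_ext₂ : Closed Q (ext₂ Q B) where
  le := fun _ h => h.1
  zero := fun X hX => ⟨Q.prop_of_isZero hX, X, X, 𝟙 X, 0, comp_zero,
    { exact := ShortComplex.exact_of_isZero_X₂ _ hX
      epi_g := ⟨fun g h _ => hX.eq_of_src g h⟩ }, hB.zero _ hX, hB.zero _ hX⟩
  left := fun S hS h₁ h₃ ⟨_, _, _, _, _, _, hS', hA, hG⟩ =>
    (exists_refine (g := S.f) (q := S.g) (w' := S.zero) hB hS' hS hA hG h₁ h₃).1
  right := fun S hS h₁ h₃ ⟨_, _, _, _, _, _, hS', hA, hG⟩ =>
    (exists_refine (g := S.f) (q := S.g) (w' := S.zero) hB hS' hS hA hG h₁ h₃).2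

include hB in
theorem le_ext₂ {F : C} (hF : B F) : ext₂ Q B F := by
  obtain ⟨Z, hZ, -⟩ := Q.exists_prop_of_containsZero
  exact ⟨hB.le _ hF, F, Z, 𝟙 F, 0, comp_zero,
    { exact := (ShortComplex.exact_iff_epi _ rfl).2 (inferInstanceAs (Epi (𝟙 F)))
      epi_g := ⟨fun g h _ => hZ.eq_of_src g h⟩ }, hF, hB.zero _ hZ⟩

/-- The retraction on `K₀`. -/
noncomputable def retract : KZero.K0sub (ext₂ Q B) →+ KZero.K0sub B :=
  QuotientAddGroup.lift _ (FreeAbelianGroup.lift fun F => val F.2) (by
    rw [KZero.relSub, AddSubgroup.closure_le]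
    rintro _ ⟨S, h₁, h₂, h₃, hS, rfl⟩
    rw [SetLike.mem_coe, AddMonoidHom.mem_ker, map_sub, map_sub, FreeAbelianGroup.lift_apply_of,
      FreeAbelianGroup.lift_apply_of, FreeAbelianGroup.lift_apply_of]
    obtain ⟨A, G, f, p, w, hS', hA, hG⟩ := h₂.2
    have hk := hB.image_src (f ≫ S.g) hA h₃.1
    have hc := hB.image_tgt (S.f ≫ p) h₁.1 hG
    have e₁ := val_eq hB h₁ (shortExact_ker (S.f ≫ p))
      (hB.iso (kerIso hS' (g := S.f) (q := S.g) (w' := S.zero) hS).symm hk.1) hc.1
    have e₃ := val_eq hB h₃ (shortExact_coker (f ≫ S.g)) hk.2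
      (hB.iso (cokerIso hS' (g := S.f) (q := S.g) (w' := S.zero) hS) hc.2)
    have e₂ := val_eq hB h₂ hS' hA hG
    rw [clSub_refine (g := S.f) (q := S.g) (w' := S.zero) hB hS' hS hA hG h₁.1 h₃.1, ← e₁, ← e₃]
      at e₂
    rw [e₂]
    abel)

theorem retract_clSub {F : C} (h : ext₂ Q B F) :
    retract hB (KZero.clSub (ext₂ Q B) F) = val h :=
  (congrArg (retract hB) (KDer46.clSub_eq h)).trans (FreeAbelianGroup.lift_apply_of _ _)

include hB in
theorem retract_clSub_of_prop {F : C} (hF : B F) :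
    retract hB (KZero.clSub (ext₂ Q B) F) = KZero.clSub B F := by
  obtain ⟨Z, hZ, -⟩ := Q.exists_prop_of_containsZero
  have hS : (ShortComplex.mk (𝟙 F) (0 : F ⟶ Z) comp_zero).ShortExact :=
    { exact := (ShortComplex.exact_iff_epi _ rfl).2 (inferInstanceAs (Epi (𝟙 F)))
      epi_g := ⟨fun g h _ => hZ.eq_of_src g h⟩ }
  have e := KDer46.clSub_add _ hS hF hF (hB.zero _ hZ)
  exact ((retract_clSub hB (le_ext₂ hB hF)).trans (val_eq hB _ hS hF (hB.zero _ hZ))).trans e.symm

end Class

end Groth.Agent.Dev46
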